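/-
Coset enumeration certificate: the assembled result.
-/
import Cfsg.Agent.Lib.Spor.TC.Steps
import Cfsg.Agent.Lib.Spor.Fi23.Rels
import Cfsg.Agent.Lib.Spor.Fi23.TwentyThree.Part0
import Cfsg.Agent.Lib.Spor.Fi23.TwentyThree.Part1

namespace CfsgLib.Spor.Fi23.TwentyThree

open CfsgLib.Spor.TC

theorem steps_ok : cert.StepsOK 0 7373 :=
  ((steps0.append _ steps3351).append _ steps6649)

theorem rows_ok : cert.RowsOK 7373 1 0 1 :=
  rows0

theorem row_zero : cert.rowNode 0 = 0 := by decide +kernel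

/-- The certificate, for the relators as powers of words. -/
noncomputable def cosetCert : CosetCert 10 (relsG ++ [([5, 1, 9, 7, 2, 3, 1, 8, 3, 2, 5, 4, 3, 8, 9, 9, 6, 1, 5, 4, 6, 8, 0, 6, 5], 1)]) [] 1 :=
  ⟨cert, 7373, steps_ok, rows_ok, row_zero, by decide, rfl, by decide +kernel, by decide +kernel⟩

end CfsgLib.Spor.Fi23.TwentyThree
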